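import Groth.Agent.Pic13.H138.BddPic
import Groth.Agent.Models.TrivGeom

/-!
# Descent of boundedness along surjections (S4291), group-theoretic part

`f : X ⟶ Y` over `k`.  If
* `A ⊆ Pic X` meets finitely many classes modulo algebraic equivalence,
* `m ∈ Pic Y` with `f^* m` algebraically equivalent to zero lies in `Num Y` (a bounded set),
then `{m | f^* m ∈ A}` is bounded.
-/

set_option autoImplicit false
universe u

open CategoryTheory CategoryTheory.Limits AlgebraicGeometry

namespace Groth.Agent.Pic13.H504.Descent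

open Groth.Agent.Grpsch.PicGrp Groth.Agent.Pic13.H138.Slice Groth.Agent.Pic13.H138.AlgEquiv
  Groth.Agent.Pic13.H138.BddPic Groth.Agent.Fdesc.LocGen

variable {k : Type u} [Field k]

local notation "Sk" => Spec (CommRingCat.of k)

section

variable {X : Scheme.{u}} [X.Over (Spec (CommRingCat.of k))]

/-- The set of classes of the invertible members of a family. -/
def classes (P : X.Modules → Prop) : Set (Pic X) := {a | ∃ (L : X.Modules) (hL : PicF.IsInvertible L), P L ∧ mk L hL = a}

/-- A family of invertible modules whose classes form a bounded set is bounded. -/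
theorem isBounded_of_bddPic {P : X.Modules → Prop} (hP : ∀ L, P L → PicF.IsInvertible L)
    {A : Set (Pic X)} (h : BddPic k X A) (hA : ∀ (L : X.Modules) (hL : PicF.IsInvertible L), P L → mk L hL ∈ A) :
    Pic13.IsBounded k X P := by
  obtain ⟨T, q, h1, h2, c, hc⟩ := h
  obtain ⟨M, hM, rfl⟩ := exists_mk c
  refine ⟨T, q, h1, h2, M, Groth.Agent.Models.TrivGeom.isCoh_of_isInvertible hM, fun L hL => ?_⟩
  obtain ⟨t, ht, e⟩ := hc _ (hA L (hP L hL) hL)
  exact ⟨t, ht, (mk_eq_iff _ _).mp e⟩

end

section

variable [IsAlgClosed k] {X Y : Scheme.{u}} [X.Over (Spec (CommRingCat.of k))] [Y.Over (Spec (CommRingCat.of k))]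

/-- Descent of boundedness in terms of classes. -/
theorem bddPic_preimage (f : X ⟶ Y) {A : Set (Pic X)} {S : Set (Pic X)} (hS : S.Finite)
    (hAS : ∀ a ∈ A, ∃ s ∈ S, AlgEq k X a s) {N : Set (Pic Y)} (hN : BddPic k Y N)
    (hfN : ∀ m : Pic Y, Grpsch.PicGrp.pull f m ∈ alg0 k X → m ∈ N) :
    BddPic k Y {m : Pic Y | Grpsch.PicGrp.pull f m ∈ A} := by
  classical
  let m : Pic X → Pic Y := fun s =>
    if h : ∃ m : Pic Y, AlgEq k X (Grpsch.PicGrp.pull f m) s then h.choose else 1
  have hm : ∀ s, (∃ m : Pic Y, AlgEq k X (Grpsch.PicGrp.pull f m) s) →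
      AlgEq k X (Grpsch.PicGrp.pull f (m s)) s := by
    intro s h
    have : m s = h.choose := dif_pos h
    rw [this]
    exact h.choose_spec
  refine (BddPic.biUnion hS (fun s => (fun a => m s * a) '' N) fun s _ => hN.smul (m s)).mono ?_
  intro b hb
  obtain ⟨s, hs, e⟩ := hAS _ hb
  have e' := hm s ⟨b, e⟩
  refine Set.mem_biUnion hs ⟨(m s)⁻¹ * b, ?_, mul_inv_cancel_left (m s) b⟩
  apply hfN
  rw [map_mul, map_inv, mul_comm]
  exact algEq_iff_mem.mp (e.trans e'.symm)

/-- Descent of boundedness along `f`, from: finitely many classes modulo algebraic equivalence upstairs,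
`B_Y` (the numerically trivial invertible modules on `Y` form a bounded family) and the fact
that an invertible module on `Y` with algebraically trivial pull back is in the bounded set `N`. -/
theorem isBounded_preimage (f : X ⟶ Y) (P : X.Modules → Prop) {A : Set (Pic X)}
    (hA : ∀ (L : X.Modules) (hL : PicF.IsInvertible L), P L → mk L hL ∈ A)
    {S : Set (Pic X)} (hS : S.Finite)
    (hAS : ∀ a ∈ A, ∃ s ∈ S, AlgEq k X a s) {N : Set (Pic Y)} (hN : BddPic k Y N)
    (hfN : ∀ m : Pic Y, Grpsch.PicGrp.pull f m ∈ alg0 k X → m ∈ N) :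
    Pic13.IsBounded k Y (fun M : Y.Modules => PicF.IsInvertible M ∧
      ∃ L : X.Modules, P L ∧ Nonempty ((Scheme.Modules.pullback f).obj M ≅ L)) := by
  refine isBounded_of_bddPic (fun _ h => h.1) (bddPic_preimage f hS hAS hN hfN) ?_
  rintro M hM ⟨-, L, hL, ⟨e⟩⟩
  have hLi : PicF.IsInvertible L := isInvertible_of_iso e (isInvertible_pullback f hM)
  have : Grpsch.PicGrp.pull f (mk M hM) = mk L hLi := mk_congr e
  rw [Set.mem_ofPred_eq, this]
  exact hA L hLi hL

end

end Groth.Agent.Pic13.H504.Descent
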