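import Groth.Agent.Pic13.H504.LocFlat
import Groth.Agent.Ega3B.AcyclicBC
import Groth.Agent.Ega3B.CombMod
import Groth.Agent.CohqB.FinTheoryInst

/-!
# Generic base change for `H^0` of a coherent module, proper over an affine scheme of finite type

`Z ⟶ Q ⟶ S`, `S` affine, Noetherian and integral, `Q` affine of finite type over `S`, `Z ⟶ Q` proper, `F` coherent
on `Z`.  There is a nonzero function `a` on `S` such that the formation of `H^0(Z, F)` commutes with every base change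
`T ⟶ S`, `T` affine, on which `a` becomes a unit.
-/

set_option autoImplicit false
universe u
open CategoryTheory CategoryTheory.Limits AlgebraicGeometry Opposite TopologicalSpace TensorProduct

namespace Groth.Agent.Pic13.H504.GenBC

open Groth.Agent.FlatA.GenericFree Groth.Agent.Pic13.H504.LocFlat

section HH

variable {Z Q S : Scheme.{u}} [IsAffine S] [IsIntegral S] [IsLocallyNoetherian S] [IsAffine Q]
    (p : Z ⟶ Q) [IsProper p] (q : Q ⟶ S) [LocallyOfFiniteType q]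

/-- `H^n(Z, F)` as a module over the functions on `S`. -/
noncomputable abbrev modHH (i : Z ⟶ S) (F : Z.Modules) (n : ℕ) : Module Γ(S, ⊤) (Coh.HH Z F n) :=
  Module.compHom _ (show Γ(S, ⊤) →+* Coh.Γtop Z from i.appTop.hom)

omit [IsIntegral S] [IsLocallyNoetherian S] in
lemma finiteType_appTop : q.appTop.hom.FiniteType :=
  (HasRingHomProperty.iff_of_isAffine (P := @LocallyOfFiniteType)).mp ‹_›

omit [IsIntegral S] in
lemma isNoetherianRing_appTop : IsNoetherianRing Γ(S, ⊤) :=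
  IsLocallyNoetherian.component_noetherian ⟨⊤, isAffineOpen_top S⟩

/-- generic freeness of cohomology -/
theorem exists_freeAway_HH (F : Z.Modules) (hF : Coh.IsCoh F) (n : ℕ) :
    ∃ a : Γ(S, ⊤), a ≠ 0 ∧ (letI := modHH (p ≫ q) F n; FreeAway Γ(S, ⊤) (Coh.HH Z F n) a) := by
  let i1 : Algebra Γ(S, ⊤) Γ(Q, ⊤) := q.appTop.hom.toAlgebra
  have i2 : Algebra.FiniteType Γ(S, ⊤) Γ(Q, ⊤) := finiteType_appTop q
  have i3 : IsNoetherianRing Γ(S, ⊤) := isNoetherianRing_appTop
  have i4 : IsNoetherianRing Γ(Q, ⊤) := Algebra.FiniteType.isNoetherianRing Γ(S, ⊤) _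
  let i5 := modHH (p ≫ q) F n
  let i6 := modHH p F n
  have hN : Module.Finite Γ(Q, ⊤) (CohqB.P1Trans.HA (A := Γ(Q, ⊤)) (p ≫ Q.isoSpec.hom) F n) :=
    CohqB.FinTheoryInst.allFin (A := Γ(Q, ⊤)) (p ≫ Q.isoSpec.hom) F hF n
  have hg : ∀ b : Γ(Q, ⊤), Coh.toGlobal (A := Γ(Q, ⊤)) (p ≫ Q.isoSpec.hom) b = p.appTop.hom b := by
    intro b
    have h1 : (p ≫ Q.isoSpec.hom).appTop = (Scheme.ΓSpecIso Γ(Q, ⊤)).hom ≫ p.appTop := by
      rw [Scheme.Hom.comp_appTop]
      congr 1
      exact Scheme.toSpecΓ_appTop Q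
    change (p ≫ Q.isoSpec.hom).appTop ((Scheme.ΓSpecIso Γ(Q, ⊤)).inv b) = p.appTop b
    rw [h1, ← CommRingCat.comp_apply, Iso.inv_hom_id_assoc]
  have i7 : Module.Finite Γ(Q, ⊤) (Coh.HH Z F n) := by
    let e : CohqB.P1Trans.HA (A := Γ(Q, ⊤)) (p ≫ Q.isoSpec.hom) F n →ₗ[Γ(Q, ⊤)] Coh.HH Z F n :=
      { toFun := fun x => x
        map_add' := fun _ _ => rfl
        map_smul' := fun b x => by
          change (Coh.toGlobal (A := Γ(Q, ⊤)) (p ≫ Q.isoSpec.hom) b) • (show Coh.HH Z F n from x) = _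
          rw [hg]
          rfl }
    exact Module.Finite.of_surjective e fun x => ⟨x, rfl⟩
  have i8 : IsScalarTower Γ(S, ⊤) Γ(Q, ⊤) (Coh.HH Z F n) := ⟨fun r b x => by
    rw [Algebra.smul_def, mul_smul]
    rfl⟩
  exact genFree_of_finiteType (R := Γ(S, ⊤)) Γ(Q, ⊤) (Coh.HH Z F n)

end HH

section Sec

variable {Z S : Scheme.{u}} [IsAffine S] [IsIntegral S]

open Ega3B Ega3B.CubeData Ega3B.CombRes Ega3B.CechBC Ega3B.CechH0 Ega3B.AcyclicBC VarietyB.FlatH0 VarietyB.BCAlg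

/-- generic freeness of sections -/
theorem exists_freeAway_sections (i : Z ⟶ S) [LocallyOfFiniteType i] (F : Z.Modules) (hF : Coh.IsCoh F)
    {V : Z.Opens} (hV : IsAffineOpen V) :
    ∃ a : Γ(S, ⊤), a ≠ 0 ∧ (letI := modV i F V; FreeAway Γ(S, ⊤) Γ(F, V) a) := by
  have e : V ≤ i ⁻¹ᵁ ⊤ := le_top
  let i1 := algOver i e
  let i2 := modV i F V
  have i3 : IsScalarTower Γ(S, ⊤) Γ(Z, V) Γ(F, V) := ⟨fun r b x => by
    rw [Algebra.smul_def, mul_smul]
    rfl⟩
  have i4 : Algebra.FiniteType Γ(S, ⊤) Γ(Z, V) :=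
    LocallyOfFiniteType.finiteType_appLE (f := i) (isAffineOpen_top S) hV e
  have i5 : Module.Finite Γ(Z, V) Γ(F, V) := by
    have := hF.1
    exact Groth.Agent.CohqB.FiniteType2.finite_sections_of_isFT F hF.2 hV
  exact genFree_of_finiteType (R := Γ(S, ⊤)) Γ(Z, V) Γ(F, V)

variable {ι : Type} [LinearOrder ι] [Fintype ι]

omit [IsIntegral S] [IsAffine S] in
/-- the cohomology of the Čech complex, linearly over the functions on `S`. -/
theorem exists_linearEquiv (i : Z ⟶ S) (F : Z.Modules) (hF : Coh.IsQCoh F) (U : ι → Z.Opens)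
    (hcov : ⨆ i, U i = ⊤) (hU : ∀ s : Finset ι, s.Nonempty → IsAffineOpen (s.inf U)) (n : ℕ) :
    letI := fun n => modC i F U n
    letI := modHH i F n
    Nonempty ((LinearMap.ker (d i F U n) ⧸ FlatCxB.bz (fun n => d i F U n) n) ≃ₗ[Γ(S, ⊤)] Coh.HH Z F n) := by
  let i1 := fun n => modC i F U n
  let i2 := modHH i F n
  have h := cech_locGood (X := Z.toPresheafedSpace.carrier) U hcov
  obtain ⟨θ, h1, h2, h3⟩ := CombMod.exists_theta (R := Γ(S, ⊤)) (show Γ(S, ⊤) →+* Coh.Γtop Z from i.appTop.hom)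
    (cech (X := Z.toPresheafedSpace.carrier) U) h hF (fun n b => hU b.1 b.2.1) n
  let θ' : LinearMap.ker (d i F U n) →ₗ[Γ(S, ⊤)] Coh.HH Z F n :=
    { toFun := fun z => θ ⟨z.1, z.2⟩
      map_add' := fun x y => θ.map_add ⟨x.1, x.2⟩ ⟨y.1, y.2⟩
      map_smul' := fun r x => h3 r ⟨x.1, x.2⟩ }
  have hs : Function.Surjective θ' := fun y => by
    obtain ⟨z, hz⟩ := h1 y
    exact ⟨⟨z.1, z.2⟩, hz⟩
  have hk : FlatCxB.bz (fun n => d i F U n) n = LinearMap.ker θ' := by
    ext z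
    rw [LinearMap.mem_ker]
    refine Iff.trans ?_ (h2 ⟨z.1, z.2⟩).symm
    cases n with
    | zero => exact Iff.rfl
    | succ n => exact Iff.rfl
  exact ⟨(Submodule.quotEquivOfEq _ _ hk).trans (θ'.quotKerEquivOfSurjective hs)⟩

/-- one nonzero function working for a finite family -/
lemma exists_prod {R : Type u} [CommRing R] [IsDomain R] {κ : Type*} [Finite κ] (P : κ → R → Prop)
    (h : ∀ k, ∃ a, a ≠ 0 ∧ P k a) (hP : ∀ k a b, P k a → a ∣ b → P k b) :
    ∃ a, a ≠ 0 ∧ ∀ k, P k a := by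
  classical
  cases nonempty_fintype κ
  choose a ha ha' using h
  exact ⟨∏ k, a k, Finset.prod_ne_zero_iff.mpr fun k _ => ha k,
    fun k => hP k _ _ (ha' k) (Finset.dvd_prod_of_mem a (Finset.mem_univ k))⟩

end Sec

section Main

open Ega3B Ega3B.CubeData Ega3B.CombRes Ega3B.CechBC Ega3B.CechH0 Ega3B.AcyclicBC VarietyB.FlatH0 VarietyB.BCAlg

variable {Z Q S : Scheme.{u}} [IsAffine S] [IsIntegral S] [IsLocallyNoetherian S] [IsAffine Q]
    (p : Z ⟶ Q) [IsProper p] (q : Q ⟶ S) [LocallyOfFiniteType q]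

theorem exists_isBC (F : Z.Modules) (hF : Coh.IsCoh F) :
    ∃ a : Γ(S, ⊤), a ≠ 0 ∧ ∀ {Y T : Scheme.{u}} {f : T ⟶ S} {g : Y ⟶ Z} {iY : Y ⟶ T}
      (H : IsPullback g iY (p ≫ q) f) [IsAffine T], IsUnit (f.appTop.hom a) →
      IsBC H.w F (US := ⊤) (UT := ⊤) le_top (UX := ⊤) le_top (UY := ⊤) le_top le_top := by
  have h1 : CompactSpace Z := QuasiCompact.compactSpace_of_compactSpace p
  have h2 : Z.IsSeparated := by
    have : IsSeparated (terminal.from Z) := by
      have : terminal.from Z = p ≫ terminal.from Q := terminal.hom_ext _ _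
      rw [this]
      infer_instance
    exact ⟨this⟩
  obtain ⟨N, U, hcov, hU⟩ := exists_cover Z
  -- the function
  obtain ⟨a1, ha1, hH1⟩ := exists_prod (R := Γ(S, ⊤)) (κ := Fin N)
    (fun n a => letI := modHH (p ≫ q) F n; FreeAway Γ(S, ⊤) (Coh.HH Z F n) a)
    (fun n => exists_freeAway_HH p q F hF n) (fun n a b h hab => by
      let := modHH (p ≫ q) F n
      exact FreeAway.of_dvd h hab)
  obtain ⟨a2, ha2, hC2⟩ := exists_prod (R := Γ(S, ⊤))
    (κ := Σ n : Fin N, (cech (X := Z.toPresheafedSpace.carrier) U).B n)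
    (fun k a => letI := modV (p ≫ q) F ((cech (X := Z.toPresheafedSpace.carrier) U).W k.1 k.2)
      FreeAway Γ(S, ⊤) Γ(F, (cech (X := Z.toPresheafedSpace.carrier) U).W k.1 k.2) a)
    (fun k => exists_freeAway_sections (p ≫ q) F hF (hU k.2.1 k.2.2.1)) (fun k a b h hab => by
      let := modV (p ≫ q) F ((cech (X := Z.toPresheafedSpace.carrier) U).W k.1 k.2)
      exact FreeAway.of_dvd h hab)
  refine ⟨a1 * a2, mul_ne_zero ha1 ha2, ?_⟩
  intro Y T f g iY H _ hunit
  let i0 := algOver f (US := ⊤) (UT := ⊤) le_top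
  let i1 := fun n => modC (p ≫ q) F U n
  let i2 := fun n => modC iY ((Scheme.Modules.pullback g).obj F) (pre g U) n
  let j1 := modV (p ≫ q) F ⊤
  let j2 := modV iY ((Scheme.Modules.pullback g).obj F) ⊤
  let j3 := fun n => modHH (p ≫ q) F n
  have hu : IsUnit (algebraMap Γ(S, ⊤) Γ(T, ⊤) (a1 * a2)) := by
    have h3 : f.appLE ⊤ ⊤ le_top = f.appTop := f.appLE_eq_app
    change IsUnit ((f.appLE ⊤ ⊤ le_top).hom (a1 * a2))
    rw [h3]
    exact hunit
  let l1 : Algebra (Localization.Away (a1 * a2)) Γ(T, ⊤) := (IsLocalization.Away.lift (a1 * a2) hu).toAlgebra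
  have l2 : IsScalarTower Γ(S, ⊤) (Localization.Away (a1 * a2)) Γ(T, ⊤) :=
    IsScalarTower.of_algebraMap_eq fun r => (IsLocalization.Away.lift_eq (a1 * a2) hu r).symm
  have l3 : Module.Flat Γ(S, ⊤) (Localization.Away (a1 * a2)) :=
    IsLocalization.flat _ (Submonoid.powers (a1 * a2))
  have hd : ∀ n, d (p ≫ q) F U (n + 1) ∘ₗ d (p ≫ q) F U n = 0 := fun n =>
    LinearMap.ext fun x => (cech (X := Z.toPresheafedSpace.carrier) U).δ_δ n x
  have hN : ∀ n, N ≤ n → Subsingleton (C F U n) := fun n hn =>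
    subsingleton_C F U n (by simpa using hn)
  have hC : ∀ n, LF Γ(S, ⊤) (Localization.Away (a1 * a2)) (C F U n) := by
    intro n
    by_cases hn : n < N
    · let i3 := fun b : (cech (X := Z.toPresheafedSpace.carrier) U).B n =>
        modV (p ≫ q) F ((cech (X := Z.toPresheafedSpace.carrier) U).W n b)
      exact LF.pi (P := fun b : (cech (X := Z.toPresheafedSpace.carrier) U).B n =>
        Γ(F, (cech (X := Z.toPresheafedSpace.carrier) U).W n b)) fun b =>
          LF.of_freeAway (FreeAway.of_dvd (hC2 ⟨⟨n, hn⟩, b⟩) (Dvd.intro_left _ rfl))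
    · have := hN n (by omega)
      exact LF.of_subsingleton
  have hH : ∀ n, LF Γ(S, ⊤) (Localization.Away (a1 * a2))
      (LinearMap.ker (d (p ≫ q) F U n) ⧸ FlatCxB.bz (fun n => d (p ≫ q) F U n) n) := by
    intro n
    by_cases hn : n < N
    · obtain ⟨e⟩ := exists_linearEquiv (p ≫ q) F hF.1 U hcov hU n
      have h3 : FreeAway Γ(S, ⊤) (Coh.HH Z F n) (a1 * a2) :=
        FreeAway.of_dvd (hH1 ⟨n, hn⟩) (Dvd.intro _ rfl)
      exact (LF.of_freeAway h3).congr e.symm
    · have := hN n (by omega)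
      exact LF.of_subsingleton
  exact LocFlat.bijective_bc_ker (R := Γ(S, ⊤)) (L := Localization.Away (a1 * a2)) (K := Γ(T, ⊤))
    (C := fun n => C F U n) (d := fun n => d (p ≫ q) F U n) hd hC hH N hN
    (C' := fun n => C ((Scheme.Modules.pullback g).obj F) (pre g U) n)
    (d' := fun n => d iY ((Scheme.Modules.pullback g).obj F) (pre g U) n)
    (fun n => sC U H.w F n) (fun n x => d_sC U H.w F n x)
    (fun n => bijective_bc_sC U H F hF.1 hU n)
    (secS H.w F (US := ⊤) (UT := ⊤) le_top (UX := ⊤) le_top (UY := ⊤) le_top le_top)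
    (CechH0.resL (p ≫ q) F U) (CechH0.resL iY ((Scheme.Modules.pullback g).obj F) (pre g U))
    (fun x => funext fun b => VarietyB.PullSec.sec_res g F _ _ _ _ x)
    (resC_injective F U hcov) (resC_injective _ (pre g U) (pre_cover g U hcov))
    (exact_resL (p ≫ q) F U hcov) (fun x => δ_resC _ (pre g U) x)

end Main

end Groth.Agent.Pic13.H504.GenBC
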