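import Groth.Agent.Flat2C.FlatSec
import Groth.Agent.FlatA.GenericFree2
import Groth.Agent.CohqB.FiniteType2
import Mathlib.AlgebraicGeometry.Morphisms.FiniteType

/-!
# Generic flatness of coherent modules, pointwise form

`exists_isFlatOverAt`: `q : Y ⟶ Spec A` of finite type, `A` a domain, `F` coherent on `Y`: there is `a ≠ 0` in `A`
such that `F` is flat over `Spec A` at every point of `Y` over `D(a)`.
-/

set_option autoImplicit false
universe u

open CategoryTheory CategoryTheory.Limits AlgebraicGeometry TopologicalSpace TensorProduct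

namespace Groth.Agent.Pic13.H504.GenFlat

open Groth.Agent.Flat2C.FlatAtCriterion Groth.Agent.FlatA.GenericFree

theorem exists_flatAt {R S N : Type u} [CommRing R] [IsDomain R] [CommRing S] [Algebra R S]
    [Algebra.FiniteType R S] [AddCommGroup N] [Module S N] [Module R N] [IsScalarTower R S N]
    [Module.Finite S N] :
    ∃ f : R, f ≠ 0 ∧ ∀ (q : Ideal S) [q.IsPrime], algebraMap R S f ∉ q → FlatCA.FlatAt R q N := by
  obtain ⟨f, hf, h⟩ := genFree_of_finiteType.{u, u, u} (R := R) S N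
  refine ⟨f, hf, fun q _ hq => ?_⟩
  have h1 : Module.Free (Localization.Away f) (LocalizedModule (Submonoid.powers f) N) :=
    h.free _ (LocalizedModule.mkLinearMap (Submonoid.powers f) N)
  have h2 : Module.Flat R (LocalizedModule (Submonoid.powers f) N) :=
    Module.Flat.trans R (Localization.Away f) _
  rw [flatAt_iff]
  intro I x hx
  obtain ⟨t, ⟨k, rfl⟩, ht⟩ := (flat_isLocalizedModule_iff (R := R) (S := R) (Submonoid.powers f)
    (LocalizedModule.mkLinearMap (Submonoid.powers f) N)).1 h2 I x hx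
  refine ⟨algebraMap R S (f ^ k), fun h3 => ?_, ?_⟩
  · rw [map_pow] at h3
    exact hq (Ideal.IsPrime.mem_of_pow_mem inferInstance k h3)
  · rw [algebraMap_smul]
    exact ht

theorem exists_isFlatOverAt' {Y S : Scheme.{u}} [IsIntegral S] [IsAffine S] (q : Y ⟶ S)
    [LocallyOfFiniteType q] [QuasiCompact q] (F : Y.Modules) (hF : Coh.IsCoh F) :
    ∃ a : Γ(S, ⊤), a ≠ 0 ∧ ∀ y : Y, q.base y ∈ S.basicOpen a → FlatMod.IsFlatOverAt q F y := by
  classical
  have hY : CompactSpace Y := QuasiCompact.compactSpace_of_compactSpace q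
  obtain ⟨t, ht⟩ := (isCompact_univ : IsCompact (Set.univ : Set Y)).elim_finite_subcover
    (fun U : Y.affineOpens => ((U : Y.Opens) : Set Y)) (fun U => U.1.2) (fun x _ => by
      obtain ⟨_, ⟨V, hV, rfl⟩, hxV, -⟩ :=
        Y.isBasis_affineOpens.exists_subset_of_mem_open (Set.mem_univ x) isOpen_univ
      exact Set.mem_iUnion.mpr ⟨⟨V, hV⟩, hxV⟩)
  have key : ∀ U : Y.affineOpens, ∃ a : Γ(S, ⊤), a ≠ 0 ∧ ∀ y ∈ (U : Y.Opens),
      q.base y ∈ S.basicOpen a → FlatMod.IsFlatOverAt q F y := by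
    intro U
    have e : (U : Y.Opens) ≤ q ⁻¹ᵁ ⊤ := le_top
    let := Flat2C.FlatSec.algebraOver q e
    let := Flat2C.FlatSec.moduleOver q F e
    have := Flat2C.FlatSec.isScalarTower_over q F e
    have : Algebra.FiniteType Γ(S, ⊤) Γ(Y, U) :=
      LocallyOfFiniteType.finiteType_appLE (f := q) (isAffineOpen_top S) U.2 e
    have : Module.Finite Γ(Y, U) Γ(F, U) := by
      have := hF.1
      exact Groth.Agent.CohqB.FiniteType2.finite_sections_of_isFT F hF.2 U.2
    obtain ⟨a, ha, h⟩ := exists_flatAt (R := Γ(S, ⊤)) (S := Γ(Y, U)) (N := Γ(F, U))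
    refine ⟨a, ha, fun y hy hqy => ?_⟩
    rw [Flat2C.FlatSec.isFlatOverAt_iff_flatAt q F U.2 (isAffineOpen_top S) e hF.1 y hy]
    apply h
    intro hcon
    have h1 : a ∈ ((U.2.primeIdealOf ⟨y, hy⟩).comap (q.appLE ⊤ U e).hom).asIdeal := hcon
    rw [IsAffineOpen.comap_primeIdealOf_appLE ⊤ (isAffineOpen_top S) U.1 U.2 e hy] at h1
    have h2 : (isAffineOpen_top S).primeIdealOf ⟨q y, e hy⟩ ∈
        (isAffineOpen_top S).fromSpec ⁻¹ᵁ S.basicOpen a := by
      change (isAffineOpen_top S).fromSpec _ ∈ S.basicOpen a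
      rw [(isAffineOpen_top S).fromSpec_primeIdealOf ⟨q y, e hy⟩]
      exact hqy
    rw [IsAffineOpen.fromSpec_preimage_basicOpen] at h2
    exact h2 h1
  choose a ha hfl using key
  refine ⟨∏ U ∈ t, a U, Finset.prod_ne_zero_iff.mpr fun U _ => ha U, fun y hy => ?_⟩
  have := ht (Set.mem_univ y)
  simp only [Set.mem_iUnion] at this
  obtain ⟨U, hU, hyU⟩ := this
  refine hfl U y hyU ?_
  rw [← Finset.mul_prod_erase _ _ hU, Scheme.basicOpen_mul] at hy
  exact hy.1

theorem exists_isFlatOverAt {Y : Scheme.{u}} {A : CommRingCat.{u}} [IsDomain A] (q : Y ⟶ Spec A)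
    [LocallyOfFiniteType q] [QuasiCompact q] (F : Y.Modules) (hF : Coh.IsCoh F) :
    ∃ a : A, a ≠ 0 ∧ ∀ y : Y, q.base y ∈ PrimeSpectrum.basicOpen a → FlatMod.IsFlatOverAt q F y := by
  obtain ⟨a, ha, h⟩ := exists_isFlatOverAt' q F hF
  refine ⟨(Scheme.ΓSpecIso A).hom a, ?_, fun y hy => h y ?_⟩
  · intro h0
    apply ha
    have := congrArg (Scheme.ΓSpecIso A).inv h0
    simpa using this
  · rw [basicOpen_eq_of_affine']
    exact hy

end Groth.Agent.Pic13.H504.GenFlat
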