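import Groth.Agent.Ega3B.FlatCxB
import Groth.Agent.VarietyB.BCAlg
import Groth.Agent.FlatA.GenericFree2

/-!
# Complexes which become flat with flat cohomology after a flat base change `R → L`

`LF R L Q`: `L ⊗[R] Q` is flat over `L`.  For a bounded complex `C` of `R`-modules whose terms and cohomology are
`LF`, and `R → L → K`: cycles in degree `0` commute with `K ⊗ -`.
-/

set_option autoImplicit false
universe u

open TensorProduct

namespace Groth.Agent.Pic13.H504.LocFlat

open Groth.Agent.Ega3B Groth.Agent.Ega3B.FlatCxB

variable (R L K : Type u) [CommRing R] [CommRing L] [CommRing K] [Algebra R L] [Algebra L K] [Algebra R K]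
  [IsScalarTower R L K]

/-- `Q` is flat after base change to `L`. -/
def LF (Q : Type u) [AddCommGroup Q] [Module R Q] : Prop := Module.Flat L (L ⊗[R] Q)

variable {R L}
variable {M N Q : Type u} [AddCommGroup M] [Module R M] [AddCommGroup N] [Module R N] [AddCommGroup Q] [Module R Q]

theorem LF.congr (h : LF R L M) (e : M ≃ₗ[R] N) : LF R L N := by
  have : Module.Flat L (L ⊗[R] M) := h
  exact Module.Flat.of_linearEquiv (e.symm.baseChange R L N M)

theorem LF.of_subsingleton [Subsingleton M] : LF R L M := by
  unfold LF
  infer_instance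

section

variable [Module.Flat R L]

theorem exact_baseChange {f : M →ₗ[R] N} {g : N →ₗ[R] Q} (h : Function.Exact f g) :
    Function.Exact (f.baseChange L) (g.baseChange L) :=
  Module.Flat.lTensor_exact L h

theorem injective_baseChange {f : M →ₗ[R] N} (hf : Function.Injective f) :
    Function.Injective (f.baseChange L) :=
  Module.Flat.lTensor_preserves_injective_linearMap f hf

omit [Module.Flat R L] in
theorem surjective_baseChange {g : N →ₗ[R] Q} (hg : Function.Surjective g) :
    Function.Surjective (g.baseChange L) :=
  LinearMap.lTensor_surjective L hg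

theorem LF.of_exact {f : M →ₗ[R] N} {g : N →ₗ[R] Q} (hf : Function.Injective f)
    (hg : Function.Surjective g) (h : Function.Exact f g) (hN : LF R L N) (hQ : LF R L Q) : LF R L M :=
  flat_of_exact (f.baseChange L) (g.baseChange L) (injective_baseChange hf) (surjective_baseChange hg)
    (exact_baseChange h) hN hQ

/-- An exact sequence with `LF` third term stays injective after `K ⊗ -`, `K` an `L`-algebra. -/
theorem LF.lTensor_injective {f : M →ₗ[R] N} {g : N →ₗ[R] Q} (hf : Function.Injective f)
    (hg : Function.Surjective g) (h : Function.Exact f g) (hQ : LF R L Q) :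
    Function.Injective (f.lTensor K) := by
  have hQ' : Module.Flat L (L ⊗[R] Q) := hQ
  have h1 : Function.Injective ((f.baseChange L).lTensor K) :=
    LinearMap.lTensor_injective_of_exact_of_flat (g.baseChange L) (surjective_baseChange hg) _
      (injective_baseChange hf) (exact_baseChange h) K
  have key : ∀ y : K ⊗[L] (L ⊗[R] M),
      AlgebraTensorModule.cancelBaseChange R L K K N ((f.baseChange L).lTensor K y) =
        f.lTensor K (AlgebraTensorModule.cancelBaseChange R L K K M y) := by
    intro y
    induction y with
    | zero => simp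
    | add a b ha hb => simp only [map_add, ha, hb]
    | tmul c z =>
      induction z with
      | zero => simp
      | add a b ha hb => simp only [tmul_add, map_add, ha, hb]
      | tmul l m => simp
  intro x y hxy
  obtain ⟨x, rfl⟩ := (AlgebraTensorModule.cancelBaseChange R L K K M).surjective x
  obtain ⟨y, rfl⟩ := (AlgebraTensorModule.cancelBaseChange R L K K M).surjective y
  rw [← key, ← key] at hxy
  rw [h1 ((AlgebraTensorModule.cancelBaseChange R L K K N).injective hxy)]

end

section complex

variable [Module.Flat R L]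
variable {C : ℕ → Type u} [∀ p, AddCommGroup (C p)] [∀ p, Module R (C p)] {d : ∀ p, C p →ₗ[R] C (p + 1)}
variable (hd : ∀ p, d (p + 1) ∘ₗ d p = 0) (hC : ∀ p, LF R L (C p))
  (hH : ∀ p, LF R L (LinearMap.ker (d p) ⧸ bz d p))
  (m : ℕ) (hm : ∀ p, m ≤ p → Subsingleton (C p))

include hC in
lemma flat_ker_of (p : ℕ) (h : LF R L (bdry d (p + 1))) : LF R L (LinearMap.ker (d p)) :=
  LF.of_exact (Submodule.subtype_injective _) (toB_surjective p) (exact_toB p) (hC p) h

include hd hC hH hm in
lemma flat_bdry (p : ℕ) : LF R L (bdry d p) := by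
  by_cases hp : m ≤ p
  · have := hm p hp
    exact LF.of_subsingleton
  · have key : ∀ k, ∀ p, p + k = m → LF R L (bdry d p) := by
      intro k
      induction k with
      | zero =>
        intro p hp
        have := hm p (by omega)
        exact LF.of_subsingleton
      | succ k ih =>
        intro p hp
        have h1 := ih (p + 1) (by omega)
        have h2 := flat_ker_of hC p h1
        exact LF.of_exact (f := bToZ hd p) (g := (bz d p).mkQ) (Submodule.inclusion_injective _)
          (Submodule.mkQ_surjective _) (exact_bToZ hd p) h2 (hH p)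
    exact key (m - p) p (by omega)

include hd hC hH hm in
/-- Cycles are pure in chains. -/
lemma lTensor_ker_injective (p : ℕ) :
    Function.Injective ((LinearMap.ker (d p)).subtype.lTensor K) :=
  LF.lTensor_injective (L := L) K (Submodule.subtype_injective _) (toB_surjective p) (exact_toB p)
    (flat_bdry hd hC hH m hm (p + 1))

include hH in
/-- Boundaries are pure in cycles. -/
lemma lTensor_bToZ_injective (p : ℕ) : Function.Injective ((bToZ hd p).lTensor K) :=
  LF.lTensor_injective (L := L) K (Submodule.inclusion_injective _) (Submodule.mkQ_surjective _)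
    (exact_bToZ hd p) (hH p)

include hd hC hH hm in
/-- Boundaries are pure in chains. -/
lemma lTensor_bdry_injective (p : ℕ) : Function.Injective ((bdry d p).subtype.lTensor K) := by
  have : (bdry d p).subtype = (LinearMap.ker (d p)).subtype ∘ₗ bToZ hd p := rfl
  rw [this, LinearMap.lTensor_comp]
  exact (lTensor_ker_injective (L := L) K hd hC hH m hm p).comp (lTensor_bToZ_injective (L := L) K hd hH p)

include hd hC hH hm in
/-- Cycles of `K ⊗ C`. -/
lemma exists_of_lTensor_eq_zero (p : ℕ) (x : K ⊗[R] C p) (hx : (d p).lTensor K x = 0) :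
    ∃ z, (LinearMap.ker (d p)).subtype.lTensor K z = x := by
  have h1 : (d p) = (bdry d (p + 1)).subtype ∘ₗ toB d p := rfl
  rw [h1, LinearMap.lTensor_comp, LinearMap.comp_apply] at hx
  have h2 : (toB d p).lTensor K x = 0 :=
    lTensor_bdry_injective (L := L) K hd hC hH m hm (p + 1) (hx.trans (map_zero _).symm)
  exact (lTensor_exact K (exact_toB p) (toB_surjective p) x).1 h2

open Groth.Agent.VarietyB.BCAlg in
include hd hC hH hm in
/-- The kernel in degree zero commutes with base change. -/
theorem bijective_bc_ker {C' : ℕ → Type u} [∀ p, AddCommGroup (C' p)] [∀ p, Module K (C' p)]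
    {d' : ∀ p, C' p →ₗ[K] C' (p + 1)} (s : ∀ p, C p →ₛₗ[algebraMap R K] C' p)
    (hs : ∀ p x, d' p (s p x) = s (p + 1) (d p x)) (hbc : ∀ p, Function.Bijective (bc (s p)))
    {H H' : Type u} [AddCommGroup H] [Module R H] [AddCommGroup H'] [Module K H']
    (t : H →ₛₗ[algebraMap R K] H') (i : H →ₗ[R] C 0) (i' : H' →ₗ[K] C' 0)
    (hi : ∀ x, i' (t x) = s 0 (i x)) (hinj : Function.Injective i) (hinj' : Function.Injective i')
    (hker : Function.Exact i (d 0)) (hker' : ∀ x, d' 0 (i' x) = 0) : Function.Bijective (bc t) := by
  let e : H →ₗ[R] LinearMap.ker (d 0) := i.codRestrict _ fun x => (hker (i x)).mpr ⟨x, rfl⟩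
  have he : Function.Bijective e := by
    constructor
    · intro x y hxy
      exact hinj (congrArg Subtype.val hxy)
    · rintro ⟨x, hx⟩
      obtain ⟨y, hy⟩ := (hker x).mp hx
      exact ⟨y, Subtype.ext hy⟩
  let e' := LinearEquiv.ofBijective e he
  have h1 : i = (LinearMap.ker (d 0)).subtype ∘ₗ e := rfl
  have h2 : ∀ x, i' (bc t x) = bc (s 0) (i.lTensor K x) := bc_comm t (s 0) i i' hi
  have h3 : Function.Injective (i.lTensor K) := by
    rw [h1, LinearMap.lTensor_comp]
    exact (lTensor_ker_injective (L := L) K hd hC hH m hm 0).comp (e'.lTensor K).injective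
  refine ⟨?_, ?_⟩
  · intro x y hxy
    apply h3
    apply (hbc 0).1
    rw [← h2, ← h2, hxy]
  · intro y
    obtain ⟨x, hx⟩ := (hbc 0).2 (i' y)
    have h4 : (d 0).lTensor K x = 0 := (hbc 1).1 (by
      rw [← bc_comm (s 0) (s 1) (d 0) (d' 0) (hs 0), hx, hker', map_zero])
    obtain ⟨z, hz⟩ := exists_of_lTensor_eq_zero (L := L) K hd hC hH m hm 0 x h4
    obtain ⟨z, rfl⟩ := (e'.lTensor K).surjective z
    refine ⟨z, hinj' ?_⟩
    rw [h2, ← hx, ← hz, h1, LinearMap.lTensor_comp_apply]
    rfl

end complex

section generic

open Groth.Agent.FlatA.GenericFree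

/-- Elementary generic freeness implies `LF` for `Localization.Away`. -/
theorem LF.of_freeAway {a : R} (h : FreeAway R M a) : LF R (Localization.Away a) M := by
  have : Module.Free (Localization.Away a) (Localization.Away a ⊗[R] M) := h.free_tensor _
  unfold LF
  infer_instance

/-- `LF` for finite products. -/
theorem LF.pi {ι : Type*} [Finite ι] {P : ι → Type u} [∀ i, AddCommGroup (P i)] [∀ i, Module R (P i)]
    (h : ∀ i, LF R L (P i)) : Module.Flat L (L ⊗[R] (∀ i, P i)) := by
  classical
  cases nonempty_fintype ι
  have h' : ∀ i, Module.Flat L (L ⊗[R] P i) := h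
  have h1 : Module.Flat L (Π₀ i, L ⊗[R] P i) := inferInstance
  have h2 : Module.Flat L (∀ i, L ⊗[R] P i) :=
    Module.Flat.of_linearEquiv (DFinsupp.linearEquivFunOnFintype (R := L)
      (M := fun i => L ⊗[R] P i)).symm
  exact Module.Flat.of_linearEquiv (TensorProduct.piRight R L L P)

end generic

end Groth.Agent.Pic13.H504.LocFlat
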