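import Groth.Agent.Pic13.H504.GenBC
import Groth.Agent.CohqA.AffineBaseChange

/-!
# Generic base change for direct images of coherent modules under proper morphisms
-/

set_option autoImplicit false
universe u
open CategoryTheory CategoryTheory.Limits AlgebraicGeometry Opposite TopologicalSpace TensorProduct

namespace Groth.Agent.Pic13.H504.PushBC

open Groth.Agent.CohqA.PullbackUniv Groth.Agent.CohqA.BaseChangeMod Groth.Agent.CohqA.PullbackAffine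
  Groth.Agent.CohqA.PullbackSections Groth.Agent.CohqA.PullbackQCoh
  Groth.Agent.CohqA.BaseChangePushout Groth.Agent.CohqA.AffineBaseChange

section alg

/-- Converse of `isBC_of_isPushout`. -/
theorem isBC_of_isPushout' {R S A B : CommRingCat.{u}} {i : R ⟶ S} {j : R ⟶ A} {k : S ⟶ B}
    {l : A ⟶ B} (H : IsPushout i j k l) {M M' : Type u} [AddCommGroup M] [Module A M] [Module R M]
    (hM : ∀ (r : R) (x : M), r • x = j.hom r • x) [AddCommGroup M'] [Module B M'] [Module S M']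
    (hM' : ∀ (s : S) (x : M'), s • x = k.hom s • x) {m : M →+ M'} (h : IsBC i.hom m)
    (hs : ∀ (a : A) (x : M), m (a • x) = l.hom a • m x) :
    IsBC l.hom m := by
  let : Algebra R S := i.hom.toAlgebra
  let : Algebra R A := j.hom.toAlgebra
  let : Algebra S B := k.hom.toAlgebra
  let : Algebra A B := l.hom.toAlgebra
  let : Algebra R B := (k.hom.comp i.hom).toAlgebra
  have : IsScalarTower R S B := IsScalarTower.of_algebraMap_eq fun _ => rfl
  have : IsScalarTower R A B := IsScalarTower.of_algebraMap_eq fun x => congr($(H.w) x)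
  have hP : Algebra.IsPushout R S A B := by
    rw [← CommRingCat.isPushout_iff_isPushout]
    exact H
  have : IsScalarTower R A M := ⟨fun r a x => by
    rw [hM, ← mul_smul]
    rfl⟩
  let : Module A M' := Module.compHom M' l.hom
  have : IsScalarTower A B M' := ⟨fun r a x => by
    change (l.hom r * a) • x = l.hom r • a • x
    rw [mul_smul]⟩
  have : IsScalarTower S B M' := ⟨fun r a x => by
    rw [hM', ← mul_smul]
    rfl⟩
  let : Module R M' := Module.compHom M' i.hom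
  have : IsScalarTower R S M' := ⟨fun r a x => by
    change (i.hom r * a) • x = i.hom r • a • x
    rw [mul_smul]⟩
  let mA : M →ₗ[A] M' := { m with map_smul' := hs }
  let mR : M →ₗ[R] M' := { m with map_smul' := h.map_smul }
  have hR : IsBaseChange S mR := (isBC_iff_isBaseChange mR).1 h
  have key : ∀ y : S ⊗[R] M, mA.liftBaseChange B ((Algebra.IsPushout.cancelBaseChange R S A B M).symm y) =
      hR.equiv y := by
    intro y
    induction y with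
    | zero => simp
    | add a b ha hb => simp only [map_add, ha, hb]
    | tmul s x =>
      rw [Algebra.IsPushout.cancelBaseChange_symm_tmul, hR.equiv_tmul, LinearMap.liftBaseChange_tmul]
      exact (hM' s (m x)).symm
  have hb : Function.Bijective (mA.liftBaseChange B) := by
    constructor
    · intro x y hxy
      obtain ⟨x, rfl⟩ := (Algebra.IsPushout.cancelBaseChange R S A B M).symm.surjective x
      obtain ⟨y, rfl⟩ := (Algebra.IsPushout.cancelBaseChange R S A B M).symm.surjective y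
      rw [key, key] at hxy
      rw [hR.equiv.injective hxy]
    · intro z
      obtain ⟨y, rfl⟩ := hR.equiv.surjective z
      exact ⟨_, key y⟩
  have hA : IsBaseChange B mA := IsBaseChange.of_equiv (LinearEquiv.ofBijective _ hb) fun x => by
    simp
  exact (isBC_iff_isBaseChange mA).2 hA

open Groth.Agent.VarietyB.BCAlg in
/-- `BCAlg.bc` bijective and `IsBC`. -/
theorem isBC_of_bijective_bc {A B : Type u} [CommRing A] [CommRing B] [Algebra A B] {M N : Type u}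
    [AddCommGroup M] [Module A M] [AddCommGroup N] [Module B N] (s : M →ₛₗ[algebraMap A B] N)
    (h : Function.Bijective (bc s)) : IsBC (algebraMap A B) s.toAddMonoidHom := by
  let : Module A N := Module.compHom N (algebraMap A B)
  have : IsScalarTower A B N := ⟨fun r a x => by
    rw [Algebra.smul_def, mul_smul]
    rfl⟩
  let f : M →ₗ[A] N :=
    { toFun := s
      map_add' := s.map_add
      map_smul' := s.map_smulₛₗ }
  have h1 : IsBaseChange B f := (isBaseChange_iff f s fun _ => rfl).2 h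
  exact (isBC_iff_isBaseChange f).2 h1

end alg

section restr

variable {X' X T S : Scheme.{u}} {g' : X' ⟶ X} {j' : X' ⟶ T} {j : X ⟶ S} {τ : T ⟶ S}

theorem isPullback_resLE (H : IsPullback g' j' j τ) (U : X.Opens) (W : X'.Opens) (hW : W = g' ⁻¹ᵁ U)
    (e : W ≤ g' ⁻¹ᵁ U) : IsPullback (g'.resLE U W e) (W.ι ≫ j') (U.ι ≫ j) τ := by
  subst hW
  rw [Scheme.Hom.resLE_eq_morphismRestrict]
  exact (isPullback_morphismRestrict g' U).paste_vert H

lemma topIso_inv_appLE (j : X ⟶ S) (U : X.Opens) (r : Γ(S, ⊤)) :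
    U.topIso.inv.hom (j.appLE ⊤ U le_top r) = (U.ι ≫ j).appLE ⊤ ⊤ le_top r := by
  have e1 : (⊤ : U.toScheme.Opens) ≤ U.ι ⁻¹ᵁ U := by simp
  have h1 : U.ι.appLE U ⊤ e1 = U.topIso.inv := by
    rw [Scheme.Opens.ι_appLE]
    rfl
  rw [← Scheme.Hom.appLE_comp_appLE U.ι j ⊤ U ⊤ le_top e1, h1]
  rfl

open Groth.Agent.VarietyB.FlatH0 in
theorem isBC_secMap_of (F : X.Modules) (U : X.Opens) (W : X'.Opens)
    (e : W ≤ g' ⁻¹ᵁ U) (iU : U.toScheme ⟶ S) (hiU : iU = U.ι ≫ j)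
    (w : (g'.resLE U W e) ≫ iU = (W.ι ≫ j') ≫ τ)
    (h : Groth.Agent.VarietyB.FlatH0.IsBC w (F.restrict U.ι) (US := ⊤) (UT := ⊤) le_top (UX := ⊤) le_top (UY := ⊤) le_top le_top) :
    letI : Module Γ(S, ⊤) Γ(F, U) := Module.compHom _ (j.appLE ⊤ U le_top).hom
    letI : Module Γ(T, ⊤) Γ((Scheme.Modules.pullback g').obj F, W) :=
      Module.compHom _ (j'.appLE ⊤ W le_top).hom
    Groth.Agent.CohqA.BaseChangeMod.IsBC (τ.appLE ⊤ ⊤ le_top).hom (secMap g' (pbUnit g' F) U W e).hom := by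
  subst hiU
  obtain ⟨a', ha'⟩ := exists_restrict g' (pbUnit g' F) U W e
  have hu := isUniv_restrict_of_isUniv g' (pbUnit g' F) (isUniv_pbUnit g' F) U W e a' ha'
  obtain ⟨ε, hε, -⟩ := (isUniv_pbUnit (g'.resLE U W e) (F.restrict U.ι)).exists_iso hu
  let : Module Γ(S, ⊤) Γ(F, U) := Module.compHom _ (j.appLE ⊤ U le_top).hom
  let : Module Γ(T, ⊤) Γ((Scheme.Modules.pullback g').obj F, W) :=
      Module.compHom _ (j'.appLE ⊤ W le_top).hom
  let k1 := algOver τ (US := ⊤) (UT := ⊤) le_top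
  let k2 := modOver (U.ι ≫ j) (F.restrict U.ι) (US := ⊤) (UX := ⊤) le_top
  let k3 := modOver (W.ι ≫ j') ((Scheme.Modules.pullback (g'.resLE U W e)).obj (F.restrict U.ι))
    (US := ⊤) (UX := ⊤) le_top
  have h0 := isBC_of_bijective_bc _ h
  let v : Γ((Scheme.Modules.pullback g').obj F, W) →+
      Γ((Scheme.Modules.pullback (g'.resLE U W e)).obj (F.restrict U.ι), ⊤) :=
    (ε.inv.app ⊤).hom.comp (toRes ((Scheme.Modules.pullback g').obj F) W)
  refine (isBC_congr_of_bijective (φ := (τ.appLE ⊤ ⊤ le_top).hom) (φ' := algebraMap Γ(S, ⊤) Γ(T, ⊤))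
    (RingHom.id Γ(S, ⊤)) Function.bijective_id (RingHom.id Γ(T, ⊤)) Function.bijective_id (toRes F U) (bijective_toRes F U) ?_ v ?_ ?_ rfl ?_).2 h0
  · intro r x
    rw [RingHom.id_apply]
    have h1 := toRes_smul F U (j.appLE ⊤ U le_top r) x
    rw [topIso_inv_appLE] at h1
    exact h1
  · have h1 : Function.Bijective (ε.inv.app ⊤) := ConcreteCategory.bijective_of_isIso (ε.inv.app ⊤)
    exact h1.comp (bijective_toRes ((Scheme.Modules.pullback g').obj F) W)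
  · intro r x
    rw [RingHom.id_apply]
    have h1 := toRes_smul ((Scheme.Modules.pullback g').obj F) W (j'.appLE ⊤ W le_top r) x
    rw [topIso_inv_appLE] at h1
    refine (congrArg (ε.inv.app ⊤) h1).trans ?_
    exact Scheme.Modules.Hom.app_smul ε.inv _ _
  · ext x
    have h1 : toRes ((Scheme.Modules.pullback g').obj F) W (secMap g' (pbUnit g' F) U W e x) =
        a'.app ⊤ (toRes F U x) := restrict_app_top g' (pbUnit g' F) U W e a' ha' x
    have h2 : a'.app ⊤ (toRes F U x) =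
        ε.hom.app ⊤ ((pbUnit (g'.resLE U W e) (F.restrict U.ι)).app ⊤ (toRes F U x)) := by
      rw [← hε]
      rfl
    change ε.inv.app ⊤ (toRes ((Scheme.Modules.pullback g').obj F) W (secMap g' (pbUnit g' F) U W e x)) = _
    rw [h1, h2]
    have h3 : ∀ z, ε.inv.app ⊤ (ε.hom.app ⊤ z) = z := fun z => congr(($(ε.hom_inv_id)).app ⊤ z)
    refine (h3 _).trans ?_
    exact (map_self' ((Scheme.Modules.pullback (g'.resLE U W e)).obj (F.restrict U.ι)) le_top _).symm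

end restr

section main

open Groth.Agent.Pic13.H504.GenBC

variable {X Y S : Scheme.{u}} [IsAffine S] [IsIntegral S] [IsLocallyNoetherian S]

omit [IsIntegral S] [IsLocallyNoetherian S] in
/-- The cartesian square of rings. -/
theorem isPushout_open {Y' T : Scheme.{u}} {g : Y' ⟶ Y} {q : Y ⟶ S} {q' : Y' ⟶ T} {τ : T ⟶ S}
    (H₂ : IsPullback g q' q τ) [IsAffine T] {V : Y.Opens} (hV : IsAffineOpen V) :
    IsPushout (τ.appLE ⊤ ⊤ le_top) (q.appLE ⊤ V le_top) (q'.appLE ⊤ (g ⁻¹ᵁ V) le_top)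
      (g.appLE V (g ⁻¹ᵁ V) le_rfl) := by
  have hUY : g ⁻¹ᵁ V = g ⁻¹ᵁ V ⊓ q' ⁻¹ᵁ ⊤ := by simp
  have h1 := isIso_pushoutSection_of_isAffineOpen H₂ (US := ⊤) (UT := ⊤) (UX := V) le_top le_top hUY
    (isAffineOpen_top S) (isAffineOpen_top T) hV
  exact ((isIso_pushoutSection_iff ..).1 h1).flip

/-- Generic base change on one affine open. -/
theorem exists_isBC_open (f : X ⟶ Y) [IsProper f] (q : Y ⟶ S) [LocallyOfFiniteType q]
    (F : X.Modules) (hF : Coh.IsCoh F) {V : Y.Opens} (hV : IsAffineOpen V) :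
    ∃ a : Γ(S, ⊤), a ≠ 0 ∧ ∀ {X' Y' T : Scheme.{u}} {g' : X' ⟶ X} {f' : X' ⟶ Y'} {g : Y' ⟶ Y}
      {q' : Y' ⟶ T} {τ : T ⟶ S} (H₁ : IsPullback g' f' f g) (H₂ : IsPullback g q' q τ) [IsAffine T],
      IsUnit (τ.appTop.hom a) →
      IsBC (g.appLE V (g ⁻¹ᵁ V) le_rfl).hom
        (secMap g (pushSquare f g g' f' H₁.w (pbUnit g' F)) V (g ⁻¹ᵁ V) le_rfl).hom := by
  have : IsAffine V.toScheme := hV
  obtain ⟨a, ha, h⟩ := exists_isBC (f ∣_ V) (V.ι ≫ q) (F.restrict (f ⁻¹ᵁ V).ι) 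
    (Groth.Agent.CohqB.LocalQC.isCoh_restrict (f ⁻¹ᵁ V).ι hF)
  refine ⟨a, ha, ?_⟩
  intro X' Y' T g' f' g q' τ H₁ H₂ _ hu
  have e : f' ⁻¹ᵁ (g ⁻¹ᵁ V) ≤ g' ⁻¹ᵁ (f ⁻¹ᵁ V) := preimage_le H₁.w V (g ⁻¹ᵁ V) le_rfl
  have hW : f' ⁻¹ᵁ (g ⁻¹ᵁ V) = g' ⁻¹ᵁ (f ⁻¹ᵁ V) := by
    rw [← Scheme.Hom.comp_preimage, ← Scheme.Hom.comp_preimage, H₁.w]
  have H := H₁.paste_vert H₂
  have hiU : f ∣_ V ≫ V.ι ≫ q = (f ⁻¹ᵁ V).ι ≫ f ≫ q := by
    rw [morphismRestrict_ι_assoc]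
  have H' : IsPullback (g'.resLE (f ⁻¹ᵁ V) (f' ⁻¹ᵁ (g ⁻¹ᵁ V)) e) ((f' ⁻¹ᵁ (g ⁻¹ᵁ V)).ι ≫ f' ≫ q')
      (f ∣_ V ≫ V.ι ≫ q) τ := by
    rw [hiU]
    exact isPullback_resLE H _ _ hW e
  let k1 : Module Γ(S, ⊤) Γ(F, f ⁻¹ᵁ V) := Module.compHom _ ((f ≫ q).appLE ⊤ (f ⁻¹ᵁ V) le_top).hom
  let k2 : Module Γ(T, ⊤) Γ((Scheme.Modules.pullback g').obj F, f' ⁻¹ᵁ (g ⁻¹ᵁ V)) :=
      Module.compHom _ ((f' ≫ q').appLE ⊤ (f' ⁻¹ᵁ (g ⁻¹ᵁ V)) le_top).hom
  have h6 := isBC_secMap_of (j := f ≫ q) (j' := f' ≫ q') (τ := τ) F (f ⁻¹ᵁ V) (f' ⁻¹ᵁ (g ⁻¹ᵁ V)) e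
    (f ∣_ V ≫ V.ι ≫ q) hiU H'.w (h H' hu)
  have h4 : secMap g (pushSquare f g g' f' H₁.w (pbUnit g' F)) V (g ⁻¹ᵁ V) le_rfl =
      secMap g' (pbUnit g' F) (f ⁻¹ᵁ V) (f' ⁻¹ᵁ (g ⁻¹ᵁ V)) e := by
    ext x
    exact secMap_pushSquare f g g' f' H₁.w (pbUnit g' F) V _ le_rfl _ x
  rw [h4]
  let k3 : Module Γ(Y, V) Γ(F, f ⁻¹ᵁ V) := (((Scheme.Modules.pushforward f).obj F).val.obj (.op V)).isModule
  let k4 : Module Γ(Y', g ⁻¹ᵁ V) Γ((Scheme.Modules.pullback g').obj F, f' ⁻¹ᵁ (g ⁻¹ᵁ V)) :=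
    (((Scheme.Modules.pushforward f').obj ((Scheme.Modules.pullback g').obj F)).val.obj
      (.op (g ⁻¹ᵁ V))).isModule
  refine isBC_of_isPushout' (M := Γ(F, f ⁻¹ᵁ V))
    (M' := Γ((Scheme.Modules.pullback g').obj F, f' ⁻¹ᵁ (g ⁻¹ᵁ V))) (isPushout_open H₂ hV) ?_ ?_ h6 ?_
  · intro r x
    have e1 : (f ≫ q).appLE ⊤ (f ⁻¹ᵁ V) le_top = q.appLE ⊤ V le_top ≫ f.app V := by
      rw [← Scheme.Hom.appLE_eq_app, Scheme.Hom.appLE_comp_appLE]
    change (show Γ(F, f ⁻¹ᵁ V) from ((f ≫ q).appLE ⊤ (f ⁻¹ᵁ V) le_top r) • x) =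
      (show Γ(F, f ⁻¹ᵁ V) from (f.app V (q.appLE ⊤ V le_top r)) • x)
    rw [e1]
    rfl
  · intro r x
    have e1 : (f' ≫ q').appLE ⊤ (f' ⁻¹ᵁ (g ⁻¹ᵁ V)) le_top = q'.appLE ⊤ (g ⁻¹ᵁ V) le_top ≫ f'.app (g ⁻¹ᵁ V) := by
      rw [← Scheme.Hom.appLE_eq_app, Scheme.Hom.appLE_comp_appLE]
    change (show Γ((Scheme.Modules.pullback g').obj F, f' ⁻¹ᵁ (g ⁻¹ᵁ V)) from
        ((f' ≫ q').appLE ⊤ (f' ⁻¹ᵁ (g ⁻¹ᵁ V)) le_top r) • x) =
      (show Γ((Scheme.Modules.pullback g').obj F, f' ⁻¹ᵁ (g ⁻¹ᵁ V)) from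
        (f'.app (g ⁻¹ᵁ V) (q'.appLE ⊤ (g ⁻¹ᵁ V) le_top r)) • x)
    rw [e1]
    rfl
  · intro a x
    have h7 := secMap_smul g (pushSquare f g g' f' H₁.w (pbUnit g' F)) V (g ⁻¹ᵁ V) le_rfl a x
    rw [h4] at h7
    exact h7

/-- Generic base change for direct images. -/
theorem exists_isUniv (f : X ⟶ Y) [IsProper f] (q : Y ⟶ S) [LocallyOfFiniteType q] [QuasiCompact q]
    (F : X.Modules) (hF : Coh.IsCoh F) :
    ∃ a : Γ(S, ⊤), a ≠ 0 ∧ ∀ {X' Y' T : Scheme.{u}} {g' : X' ⟶ X} {f' : X' ⟶ Y'} {g : Y' ⟶ Y}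
      {q' : Y' ⟶ T} {τ : T ⟶ S} (H₁ : IsPullback g' f' f g) (H₂ : IsPullback g q' q τ) [IsAffine T],
      IsUnit (τ.appTop.hom a) → IsUniv g (pushSquare f g g' f' H₁.w (pbUnit g' F)) := by
  have : CompactSpace Y := QuasiCompact.compactSpace_of_compactSpace q
  obtain ⟨I, hI, he⟩ := (isCompact_iff_finite_and_eq_biUnion_affineOpens (U := (⊤ : Y.Opens))).mp
    isCompact_univ
  have := hI.to_subtype
  obtain ⟨a, ha, h⟩ := exists_prod (R := Γ(S, ⊤)) (κ := I) (fun V a => ∀ {X' Y' T : Scheme.{u}}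
      {g' : X' ⟶ X} {f' : X' ⟶ Y'} {g : Y' ⟶ Y}
      {q' : Y' ⟶ T} {τ : T ⟶ S} (H₁ : IsPullback g' f' f g) (H₂ : IsPullback g q' q τ) [IsAffine T],
      IsUnit (τ.appTop.hom a) →
      IsBC (g.appLE V.1.1 (g ⁻¹ᵁ V.1.1) le_rfl).hom
        (secMap g (pushSquare f g g' f' H₁.w (pbUnit g' F)) V.1.1 (g ⁻¹ᵁ V.1.1) le_rfl).hom)
    (fun V => exists_isBC_open f q F hF V.1.2) (fun V a b h hab => by
      intro X' Y' T g' f' g q' τ H₁ H₂ _ hu
      exact h H₁ H₂ (isUnit_of_dvd_unit (map_dvd _ hab) hu))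
  refine ⟨a, ha, ?_⟩
  intro X' Y' T g' f' g q' τ H₁ H₂ _ hu
  have h1 : IsProper f' := MorphismProperty.of_isPullback H₁ ‹_›
  have hM : F.IsQuasicoherent := hF.1
  have h2 : ((Scheme.Modules.pushforward f).obj F).IsQuasicoherent :=
    Groth.Agent.Ega1.QcqsPush.isQCoh_pushforward f F ‹_›
  have h3 : ((Scheme.Modules.pushforward f').obj ((Scheme.Modules.pullback g').obj F)).IsQuasicoherent :=
    Groth.Agent.Ega1.QcqsPush.isQCoh_pushforward f' _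
      (isQuasicoherent_of_isUniv g' (pbUnit g' F) (isUniv_pbUnit g' F))
  refine isUniv_of_isBC_cover g _ fun y => ?_
  have h4 : g y ∈ (⊤ : Y.Opens) := trivial
  rw [he] at h4
  simp only [Opens.mem_iSup] at h4
  obtain ⟨V, hVI, hyV⟩ := h4
  refine ⟨V.1, g ⁻¹ᵁ V.1, V.2, ?_, le_rfl, hyV, h ⟨V, hVI⟩ H₁ H₂ hu⟩
  exact VarietyB.FlatH0.isAffineOpen_pull H₂ (US := ⊤) (UT := ⊤) le_top (UX := V.1) le_top (by simp)
    (isAffineOpen_top S) (isAffineOpen_top T) V.2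

end main

end Groth.Agent.Pic13.H504.PushBC
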